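import Mathlib

/-!
# The principal ideal theorem in its group-theoretic form

The transfer into an abelian quotient of the derived subgroup is trivial. The proof uses the
embedding of the extension into a module over the integral group ring of the abelianization and
the adjugate of a square relation matrix.
-/

set_option autoImplicit false
set_option maxHeartbeats 1000000

open Subgroup
open scoped Matrix

namespace CfsgLib.PrincipalIdeal

section Det

variable {Γ M ι : Type*} [CommGroup Γ] [Fintype Γ] [AddCommGroup M] [Module (MonoidAlgebra ℤ Γ) M]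
  [Fintype ι] [DecidableEq ι]

/-- The augmentation. -/
noncomputable def aug (Γ : Type*) [CommGroup Γ] : MonoidAlgebra ℤ Γ →+* ℤ :=
  (MonoidAlgebra.lift ℤ ℤ Γ (1 : Γ →* ℤ)).toRingHom

theorem aug_single (γ : Γ) (n : ℤ) : aug Γ (MonoidAlgebra.single γ n) = n := by
  show MonoidAlgebra.lift ℤ ℤ Γ (1 : Γ →* ℤ) (MonoidAlgebra.single γ n) = n
  rw [MonoidAlgebra.lift_single]
  simp

/-- An element fixed by the group with augmentation the group order is the sum of the group. -/
theorem eq_sum_of_fixed (x : MonoidAlgebra ℤ Γ)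
    (hfix : ∀ γ : Γ, MonoidAlgebra.single γ 1 * x = x) (haug : aug Γ x = Fintype.card Γ) :
    x = ∑ γ : Γ, MonoidAlgebra.single γ 1 := by
  classical
  have hconst : ∀ γ : Γ, x.coeff γ = x.coeff 1 := fun γ => by
    conv_lhs => rw [← hfix γ]
    rw [MonoidAlgebra.coeff_single_mul_eq_mul_coeff 1 (fun m' _ => by simp)]
    simp
  have hx : x = ∑ γ : Γ, MonoidAlgebra.single γ (x.coeff 1) := by
    conv_lhs => rw [← MonoidAlgebra.sum_coeff_single x]
    rw [Finsupp.sum_fintype _ _ (fun i => by simp)]
    exact Finset.sum_congr rfl fun γ _ => by rw [hconst γ]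
  have h1 : x.coeff 1 = 1 := by
    rw [hx, map_sum] at haug
    simp only [aug_single, Finset.sum_const, Finset.card_univ, nsmul_eq_mul] at haug
    have hne : (Fintype.card Γ : ℤ) ≠ 0 := by exact_mod_cast Fintype.card_ne_zero
    exact mul_left_cancel₀ hne (haug.trans (mul_one _).symm)
  rw [h1] at hx
  exact hx

/-- A square relation matrix kills its vector through its determinant. -/
theorem det_smul_eq_zero (μ : Matrix ι ι (MonoidAlgebra ℤ Γ)) (m : ι → M)
    (hμ : ∀ j, ∑ k, μ j k • m k = 0) (i : ι) : μ.det • m i = 0 := by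
  have h : ∑ j, μ.adjugate i j • ∑ k, μ j k • m k = μ.det • m i := by
    simp only [Finset.smul_sum, smul_smul]
    rw [Finset.sum_comm]
    simp only [← Finset.sum_smul]
    rw [show (fun k => (∑ j, μ.adjugate i j * μ j k) • m k) = fun k =>
      (μ.det • (1 : Matrix ι ι (MonoidAlgebra ℤ Γ))) i k • m k from
        funext fun k => by rw [← Matrix.adjugate_mul]; rfl]
    simp [Matrix.one_apply, ite_smul, Matrix.smul_apply]
  rw [← h]
  simp [hμ]

end Det

variable {G A : Type*} [Group G] [Finite G] [CommGroup A]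

theorem transfer_eq_one_of_commutator (φ : commutator G →* A) :
    MonoidHom.transfer φ = 1 := by
  classical
  ext g₀
  haveI : Fintype (Abelianization G) := Fintype.ofFinite _
  haveI : Fintype G := Fintype.ofFinite _
  let π : G →* Abelianization G := Abelianization.of
  let t : Abelianization G → G := Quotient.out
  have ht : ∀ γ, π (t γ) = γ := fun γ => Quotient.out_eq γ
  have hmem : ∀ g γ, (t γ)⁻¹ * g * t ((π g)⁻¹ * γ) ∈ commutator G := fun g γ => by
    have h1 : π ((t γ)⁻¹ * g * t ((π g)⁻¹ * γ)) = 1 := by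
      rw [map_mul, map_mul, map_inv, ht, ht, mul_assoc, mul_inv_cancel_left, inv_mul_cancel]
    exact (QuotientGroup.eq_one_iff _).1 h1
  -- the cocycle
  let f : G → Abelianization G → Additive A := fun g γ => Additive.ofMul (φ ⟨_, hmem g γ⟩)
  have hf : ∀ g h γ, f (g * h) γ = f g γ + f h ((π g)⁻¹ * γ) := fun g h γ => by
    simp only [f, ← ofMul_mul, ← map_mul]
    refine congrArg (fun a => Additive.ofMul (φ a)) (Subtype.ext ?_)
    simp only [Subgroup.coe_mul, map_mul, mul_inv_rev, mul_assoc, mul_inv_cancel_left]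
  -- the module
  let R := MonoidAlgebra ℤ (Abelianization G)
  let M := (Abelianization G → Additive A) × R
  let act : Abelianization G →* Module.End ℤ M :=
    { toFun := fun γ =>
        { toFun := fun x => (fun δ => x.1 (γ⁻¹ * δ), MonoidAlgebra.single γ 1 * x.2)
          map_add' := fun x y => by
            refine Prod.ext (funext fun δ => ?_) ?_
            · rfl
            · exact mul_add _ _ _
          map_smul' := fun c x => by
            refine Prod.ext (funext fun δ => ?_) ?_
            · rfl
            · exact mul_smul_comm _ _ _ }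
      map_one' := by
        refine LinearMap.ext fun x => Prod.ext (funext fun δ => ?_) ?_
        · show x.1 ((1 : Abelianization G)⁻¹ * δ) = x.1 δ
          rw [inv_one, one_mul]
        · show MonoidAlgebra.single (1 : Abelianization G) (1 : ℤ) * x.2 = x.2
          rw [← MonoidAlgebra.one_def, one_mul]
      map_mul' := fun a b => by
        refine LinearMap.ext fun x => Prod.ext (funext fun δ => ?_) ?_
        · show x.1 ((a * b)⁻¹ * δ) = x.1 (b⁻¹ * (a⁻¹ * δ))
          rw [mul_inv_rev, mul_assoc]
        · show MonoidAlgebra.single (a * b) (1 : ℤ) * x.2 =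
            MonoidAlgebra.single a 1 * (MonoidAlgebra.single b 1 * x.2)
          rw [← mul_assoc, MonoidAlgebra.single_mul_single, mul_one] }
  let Φ : R →+* Module.End ℤ M := (MonoidAlgebra.lift ℤ (Module.End ℤ M) _ act).toRingHom
  letI : Module R M := Module.compHom M Φ
  have hsingle : ∀ (γ : Abelianization G) (x : M),
      (MonoidAlgebra.single γ 1 : R) • x = act γ x := fun γ x => by
    show (MonoidAlgebra.lift ℤ (Module.End ℤ M) _ act (MonoidAlgebra.single γ 1)) x = _
    rw [MonoidAlgebra.lift_single, one_smul]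
  let m : G → M := fun g => (f g, MonoidAlgebra.single (π g) 1 - 1)
  have hm : ∀ g h, m (g * h) = m g + (MonoidAlgebra.single (π g) 1 : R) • m h := fun g h => by
    rw [hsingle]
    refine Prod.ext (funext fun δ => hf g h δ) ?_
    show MonoidAlgebra.single (π (g * h)) (1 : ℤ) - 1 = MonoidAlgebra.single (π g) 1 - 1 +
      MonoidAlgebra.single (π g) 1 * (MonoidAlgebra.single (π h) 1 - 1)
    rw [mul_sub, MonoidAlgebra.single_mul_single, map_mul, mul_one, mul_one]
    abel
  -- the structure of the abelianization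
  obtain ⟨ι, hι, d, hd, ⟨e⟩⟩ :=
    CommGroup.equiv_prod_multiplicative_zmod_of_finite (Abelianization G)
  haveI : ∀ i, NeZero (d i) := fun i => ⟨by have := hd i; omega⟩
  let b : ι → Abelianization G := fun i => e.symm (Pi.mulSingle i (Multiplicative.ofAdd 1))
  choose gb hgb using fun i => QuotientGroup.mk_surjective (b i)
  let c : Abelianization G → ι → ℕ := fun γ i => (Multiplicative.toAdd (e γ i)).val
  have hprod : ∀ γ, γ = ∏ i, b i ^ c γ i := fun γ => by
    apply e.injective
    rw [map_prod]
    conv_lhs => rw [← Finset.univ_prod_mulSingle (e γ)]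
    refine Finset.prod_congr rfl fun i _ => ?_
    simp only [b, map_pow, MulEquiv.apply_symm_apply, ← Pi.mulSingle_pow, c, ← ofAdd_nsmul,
      nsmul_eq_mul, mul_one, ZMod.natCast_zmod_val, ofAdd_toAdd]
  have hord : ∀ i, b i ^ d i = 1 := fun i => by
    apply e.injective
    simp only [b, map_pow, MulEquiv.apply_symm_apply, ← Pi.mulSingle_pow, ← ofAdd_nsmul,
      nsmul_eq_mul, mul_one, ZMod.natCast_self, ofAdd_zero, Pi.mulSingle_one, map_one]
  have hcard : Fintype.card (Abelianization G) = ∏ i, d i := by
    rw [← Nat.card_eq_fintype_card, Nat.card_congr e.toEquiv, Nat.card_pi]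
    exact Finset.prod_congr rfl fun i _ => by
      rw [Nat.card_congr Multiplicative.toAdd, Nat.card_zmod]
  -- congruences modulo the augmentation ideal
  let v : ι ⊕ G → M := Sum.elim (fun i => m (gb i)) m
  let J : Submodule R M := RingHom.ker (aug (Abelianization G)) • Submodule.span R (Set.range v)
  have hsub : ∀ γ g, ((MonoidAlgebra.single γ 1 : R) - 1) • m g ∈ J := fun γ g =>
    Submodule.smul_mem_smul (by simp [RingHom.mem_ker, aug_single])
      (Submodule.subset_span ⟨Sum.inr g, rfl⟩)
  have hadd : ∀ g h, (Submodule.Quotient.mk (m (g * h)) : M ⧸ J) =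
      Submodule.Quotient.mk (m g) + Submodule.Quotient.mk (m h) := fun g h => by
    rw [← Submodule.Quotient.mk_add, Submodule.Quotient.eq, hm]
    have := hsub (π g) h
    rwa [sub_smul, one_smul, show m g + (MonoidAlgebra.single (π g) 1 : R) • m h - (m g + m h) =
      (MonoidAlgebra.single (π g) 1 : R) • m h - m h by abel] at *
  let θ : G →* Multiplicative (M ⧸ J) :=
    MonoidHom.mk' (fun g => Multiplicative.ofAdd (Submodule.Quotient.mk (m g))) fun g h => by
      rw [hadd]; rfl
  let Fh : Abelianization G →* Multiplicative (M ⧸ J) := Abelianization.lift θ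
  have hF : ∀ g, Fh (π g) = θ g := fun g => Abelianization.lift_apply_of θ g
  have hθb : ∀ i, Fh (b i) = θ (gb i) := fun i => by
    rw [← hgb i]; exact hF (gb i)
  let T : Matrix (ι ⊕ G) (ι ⊕ G) ℤ :=
    Matrix.fromBlocks (Matrix.diagonal fun i => (d i : ℤ)) 0
      (Matrix.of fun g i => -(c (π g) i : ℤ)) 1
  have hT : ∀ j, ∑ k, ((T j k : ℤ) : R) • v k ∈ J := by
    intro j
    rw [← Submodule.Quotient.mk_eq_zero, ← Submodule.mkQ_apply, map_sum]
    simp only [Int.cast_smul_eq_zsmul, map_zsmul, Submodule.mkQ_apply]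
    rw [Fintype.sum_sum_type]
    rcases j with i | g
    · have h1 : Fh (b i) ^ d i = 1 := by rw [← map_pow, hord, map_one]
      rw [hθb] at h1
      have h2 := congrArg Multiplicative.toAdd h1
      simp only [toAdd_pow, toAdd_one] at h2
      simp only [T, Matrix.fromBlocks_apply₁₁, Matrix.fromBlocks_apply₁₂, Matrix.zero_apply,
        zero_smul, Finset.sum_const_zero, add_zero, Matrix.diagonal_apply, ite_smul,
        Finset.sum_ite_eq, Finset.mem_univ, if_true, natCast_zsmul]
      exact h2
    · have h1 : θ g = ∏ i, θ (gb i) ^ c (π g) i := by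
        rw [← hF g]
        conv_lhs => rw [hprod (π g)]
        simp only [map_prod, map_pow, hθb]
      have h2 := congrArg Multiplicative.toAdd h1
      simp only [toAdd_prod, toAdd_pow] at h2
      simp only [T, Matrix.fromBlocks_apply₂₁, Matrix.fromBlocks_apply₂₂, Matrix.of_apply,
        Matrix.one_apply, ite_smul, one_smul, zero_smul, Finset.sum_ite_eq, Finset.mem_univ,
        if_true, neg_smul, natCast_zsmul, Finset.sum_neg_distrib]
      rw [neg_add_eq_zero]
      exact h2.symm
  have hex : ∀ j, ∃ a : ι ⊕ G → R, (∀ k, aug _ (a k) = 0) ∧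
      ∑ k, a k • v k = ∑ k, ((T j k : ℤ) : R) • v k := fun j => by
    obtain ⟨a, ha, he⟩ := (Submodule.mem_ideal_smul_span_iff_exists_sum _ v _).1 (hT j)
    refine ⟨a, fun k => RingHom.mem_ker.1 (ha k), ?_⟩
    rw [← he]
    exact (Finsupp.sum_fintype a (fun k c => c • v k) (fun k => zero_smul R (v k))).symm
  choose a ha hae using hex
  let μ : Matrix (ι ⊕ G) (ι ⊕ G) R := Matrix.of fun j k => ((T j k : ℤ) : R) - a j k
  have hμ : ∀ j, ∑ k, μ j k • v k = 0 := fun j => by
    simp only [μ, Matrix.of_apply, sub_smul, Finset.sum_sub_distrib, hae j, sub_self]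
  have hdetaug : aug _ μ.det = Fintype.card (Abelianization G) := by
    rw [RingHom.map_det, show (aug (Abelianization G)).mapMatrix μ = T from ?_]
    · rw [Matrix.det_fromBlocks_zero₁₂, Matrix.det_diagonal, Matrix.det_one, mul_one, hcard]
      push_cast
      rfl
    · ext j k
      simp [μ, ha j k]
  have hkill : ∀ g, μ.det • m g = 0 := fun g => det_smul_eq_zero μ v hμ (Sum.inr g)
  have hfix : ∀ γ, MonoidAlgebra.single γ 1 * μ.det = μ.det := fun γ => by
    have hsnd : ∀ (r : R) (x : M), (r • x).2 = r * x.2 := by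
      intro r x
      induction r using MonoidAlgebra.induction_on with
      | of δ =>
        show ((MonoidAlgebra.single δ 1 : R) • x).2 = MonoidAlgebra.single δ 1 * x.2
        rw [hsingle]
        rfl
      | add r s hr hs => rw [add_smul, Prod.snd_add, hr, hs, add_mul]
      | smul n r hr =>
        rw [zsmul_eq_mul, mul_smul, Int.cast_smul_eq_zsmul, Prod.smul_snd, hr, zsmul_eq_mul,
          mul_assoc]
    obtain ⟨g, rfl⟩ := QuotientGroup.mk_surjective γ
    have h1 : (μ.det • m g).2 = 0 := by rw [hkill g]; rfl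
    rw [hsnd, mul_comm] at h1
    change (MonoidAlgebra.single (π g) (1 : ℤ) - 1) * μ.det = 0 at h1
    rw [sub_mul, one_mul, sub_eq_zero] at h1
    exact h1
  have hnorm := eq_sum_of_fixed μ.det hfix hdetaug
  have h0 : ((∑ γ : Abelianization G, (MonoidAlgebra.single γ 1 : R)) • m g₀).1 1 = 0 := by
    rw [← hnorm, hkill]; rfl
  rw [Finset.sum_smul, Prod.fst_sum, Finset.sum_apply] at h0
  simp only [hsingle] at h0
  change ∑ γ : Abelianization G, f g₀ (γ⁻¹ * 1) = 0 at h0
  haveI : Fintype (G ⧸ commutator G) := inferInstanceAs (Fintype (Abelianization G))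
  let T0 : (commutator G).LeftTransversal :=
    ⟨Set.range t, Subgroup.isComplement_range_left (fun q => Quotient.out_eq q)⟩
  rw [MonoidHom.transfer_def φ T0 g₀, MonoidHom.one_apply]
  unfold Subgroup.leftTransversals.diff
  simp only []
  apply Additive.ofMul.injective
  simp only [mul_one] at h0
  have h1 : ∑ γ : Abelianization G, f g₀ γ = 0 :=
    (Fintype.sum_equiv (Equiv.inv (Abelianization G)) (fun γ => f g₀ γ⁻¹) (f g₀)
      (fun γ => rfl)).symm.trans h0
  rw [ofMul_prod, ofMul_one, ← h1]
  refine Finset.sum_congr (by ext x; exact iff_of_true (@Finset.mem_univ _ (_) _) (@Finset.mem_univ _ (_) _)) fun q _ => ?_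
  refine congrArg (fun a => Additive.ofMul (φ a)) (Subtype.ext ?_)
  show ((T0.2.leftQuotientEquiv q : G))⁻¹ * ((g₀ • T0).2.leftQuotientEquiv q : G) = _
  have h3 : ∀ r : G ⧸ commutator G, (T0.2.leftQuotientEquiv r : G) = t r := fun r =>
    Subgroup.IsComplement.leftQuotientEquiv_apply (f := fun r : G ⧸ commutator G => t r)
      (fun r => Quotient.out_eq r) r
  rw [Subgroup.smul_apply_eq_smul_apply_inv_smul, smul_eq_mul]
  obtain ⟨x, rfl⟩ := QuotientGroup.mk_surjective q
  have h4 := h3 (g₀⁻¹ • (x : G ⧸ commutator G))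
  calc _ = (t (π x))⁻¹ * (g₀ * t ((π g₀)⁻¹ * π x)) := by
        exact congrArg₂ (fun a b => a⁻¹ * (g₀ * b)) (h3 _) (h4.trans (congrArg t rfl))
    _ = _ := (mul_assoc _ _ _).symm

end CfsgLib.PrincipalIdeal
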